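import Groth.Agent.S3283
import Groth.Agent.GenSubLib.Smallest
import Groth.Agent.OrbitLib.Main
import Groth.Agent.S2501

/-!
# Tools for the fixed point theorem: rational points, derived subgroup
-/

set_option autoImplicit false
set_option backward.isDefEq.respectTransparency false

universe u

open CategoryTheory CategoryTheory.Limits MonoidalCategory CartesianMonoidalCategory AlgebraicGeometry
open scoped MonObj

noncomputable section

namespace BorelFix

open Groth.Agent

attribute [-instance] CategoryTheory.Hom.commGroup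

variable (k : Type u) [Field k]

/-- the rational point of the spectrum -/
def unitPt : 𝟙_ (Over (Spec (CommRingCat.of k))) ⟶ Groth.Agent.DensePts.pt k k :=
  Over.homMk (𝟙 (Spec (CommRingCat.of k))) (by
    simp only [Over.mk_hom]
    exact Spec.map_id _)

theorem hom_pt_ext {T : Over (Spec (CommRingCat.of k))} (f g : T ⟶ Groth.Agent.DensePts.pt k k) : f = g := by
  ext1
  have hf := Over.w f
  have hg := Over.w g
  have h1 : (Groth.Agent.DensePts.pt k k).hom = 𝟙 (Spec (CommRingCat.of k)) := Spec.map_id _
  rw [h1] at hf hg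
  exact (Category.comp_id _).symm.trans ((hf.trans hg.symm).trans (Category.comp_id _))

variable {k} [IsAlgClosed k]

/-- Morphisms from a geometrically reduced scheme agreeing on rational points are equal. -/
theorem hom_ext_pts {X Y : Over (Spec (CommRingCat.of k))} [LocallyOfFiniteType X.hom]
    [GeometricallyReduced X.hom] [IsSeparated Y.hom] (φ ψ : X ⟶ Y)
    (h : ∀ x : 𝟙_ (Over (Spec (CommRingCat.of k))) ⟶ X, x ≫ φ = x ≫ ψ) : φ = ψ := by
  refine Groth.Agent.DensePts.hom_ext_of_points (K := k) φ ψ fun x => ?_
  have hx : x = toUnit _ ≫ unitPt k ≫ x := by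
    rw [← Category.assoc, hom_pt_ext k (toUnit _ ≫ unitPt k) (𝟙 _), Category.id_comp]
  rw [hx, Category.assoc, Category.assoc, Category.assoc, Category.assoc]
  exact congrArg (fun z => toUnit _ ≫ z) ((Category.assoc _ _ _).symm.trans ((h _).trans (Category.assoc _ _ _)))

/-- A rational point in the range of a closed immersion factors. -/
theorem factors_pt {X Z : Over (Spec (CommRingCat.of k))} (c : Z ⟶ X) [IsClosedImmersion c.left]
    (y : 𝟙_ (Over (Spec (CommRingCat.of k))) ⟶ X) (h : Set.range y.left ⊆ Set.range c.left) :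
    ∃ z, z ≫ c = y := by
  haveI : IsReduced (𝟙_ (Over (Spec (CommRingCat.of k)))).left := inferInstanceAs (IsReduced (Spec (CommRingCat.of k)))
  exact Groth.Agent.DensePts.factors_of_range y c h

/-- Rational points with the same image are equal. -/
theorem pt_ext {X : Over (Spec (CommRingCat.of k))} [LocallyOfFiniteType X.hom]
    (x y : 𝟙_ (Over (Spec (CommRingCat.of k))) ⟶ X)
    (h : x.left (IsLocalRing.closedPoint k) = y.left (IsLocalRing.closedPoint k)) : x = y := by
  ext1
  exact ext_of_apply_closedPoint_eq X.hom (Over.w x) (Over.w y) h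

theorem derivedSeries_le {H K : Type u} [Group H] [Group K] (f : H →* K)
    (hf : ∀ x, f x ∈ commutator K) : ∀ n, (derivedSeries H n).map f ≤ derivedSeries K (n + 1)
  | 0 => by
      rintro _ ⟨x, -, rfl⟩
      rw [derivedSeries_succ, derivedSeries_zero]
      exact hf x
  | n + 1 => by
      rw [derivedSeries_succ H n, derivedSeries_succ K (n + 1), Subgroup.map_commutator]
      exact Subgroup.commutator_mono (derivedSeries_le f hf n) (derivedSeries_le f hf n)

variable (G : Over (Spec (CommRingCat.of k))) [GrpObj G]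

/-- The commutator map. -/
def comm : G ⊗ G ⟶ G :=
  (fst G G ≫ 𝟙 G) * (snd G G ≫ 𝟙 G) * (fst G G ≫ 𝟙 G)⁻¹ * (snd G G ≫ 𝟙 G)⁻¹

variable [IsAffine G.left] [Smooth G.hom] [ConnectedSpace G.left]

/-- The derived subgroup with its properties. -/
theorem exists_derived : ∃ (D : Over (Spec (CommRingCat.of k))) (_ : GrpObj D) (i : D ⟶ G),
    IsMonHom i ∧ IsClosedImmersion i.left ∧ Smooth D.hom ∧ ConnectedSpace D.left ∧
      (∃ c : G ⊗ G ⟶ D, c ≫ i = comm G) ∧
      Set.range (fun d : 𝟙_ (Over (Spec (CommRingCat.of k))) ⟶ D => d ≫ i) =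
        ((commutator (𝟙_ (Over (Spec (CommRingCat.of k))) ⟶ G) : Subgroup (𝟙_ (Over (Spec (CommRingCat.of k))) ⟶ G)) :
          Set (𝟙_ (Over (Spec (CommRingCat.of k))) ⟶ G)) := by
  classical
  haveI : GeometricallyReduced G.hom := AbSchLib.geometricallyReduced_of_smooth G.hom
  haveI : QuasiCompact G.hom := inferInstance
  haveI : GeometricallyReduced (G ⊗ G).hom := GenSub.gr_prod G.hom G.hom
  haveI : IsMonHom (𝟙 G) := inferInstance
  haveI : IsClosedImmersion (𝟙 G : G ⟶ G).left := inferInstanceAs (IsClosedImmersion (𝟙 G.left))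
  haveI : GeometricallyConnected G.hom := Groth.Agent.S2501.result G.hom
  haveI : GeometricallyConnected (G ⊗ G).hom := by
    haveI : GeometricallyConnected (pullback.fst G.hom G.hom) :=
      MorphismProperty.pullback_fst (P := @GeometricallyConnected) _ _ inferInstance
    haveI : UniversallyOpen G.hom := inferInstance
    haveI : UniversallyOpen (pullback.fst G.hom G.hom) := inferInstance
    exact GeometricallyConnected.comp (pullback.fst G.hom G.hom) G.hom
  obtain ⟨D, hDg, i, hm, hc, hred, hgr, hr, -, hf⟩ := GenSub.exists_generated (comm G)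
  haveI := hm; haveI := hc; haveI := hgr; haveI := hred
  haveI : LocallyOfFiniteType D.hom := by rw [← Over.w i]; infer_instance
  refine ⟨D, hDg, i, hm, hc, AlbLib.smooth_grp D, ?_, hf, ?_⟩
  · have hw : _root_.IsConnected (GenSub.wordSet (comm G)) :=
      GenSub.isConnected_wordSet (comm G) (lift 1 1) (by
        simp only [comm, MonObj.comp_mul, GrpObj.comp_inv, lift_fst, lift_snd, lift_fst_assoc, lift_snd_assoc, Category.comp_id,
          inv_one, _root_.mul_one])
    have h2 : _root_.IsConnected (Set.range i.left.base) := by rw [hr]; exact hw.closure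
    have h3 : _root_.IsPreconnected (Set.univ : Set D.left) :=
      i.left.isClosedEmbedding.isInducing.isPreconnected_image.1 (by rw [Set.image_univ]; exact h2.isPreconnected)
    haveI : PreconnectedSpace D.left := ⟨h3⟩
    haveI : Nonempty D.left := ⟨(1 : 𝟙_ (Over (Spec (CommRingCat.of k))) ⟶ D).left (IsLocalRing.closedPoint k)⟩
    exact ConnectedSpace.mk this
  · refine (Groth.Agent.S6073.result k G G G (𝟙 G) (𝟙 G) (Or.inr inferInstance) D i hf
      (fun Γ' _ i' hm' hc' ⟨f'', hf''⟩ => ?_)).trans ?_
    · haveI := hm'; haveI := hc'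
      exact GenSub.le_of_factors (comm G) i hr i' f'' hf''
    · have e : Subgroup.closure (Set.range fun x : 𝟙_ (Over (Spec (CommRingCat.of k))) ⟶ G => x ≫ 𝟙 G) = ⊤ :=
        eq_top_iff.2 fun g _ => Subgroup.subset_closure ⟨g, Category.comp_id g⟩
      rw [e]
      rfl

end BorelFix
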